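import Groth.Agent.SrcDescent.Scheme
import Groth.Agent.Pi1X.FEtFull
import Mathlib.AlgebraicGeometry.Morphisms.FlatRank
import Mathlib.AlgebraicGeometry.ZariskisMainTheorem
import Mathlib.AlgebraicGeometry.Morphisms.UniversallyInjective

/-!
# Flat quasi-finite morphisms of rank at most one over the maximal points
-/

universe u

set_option autoImplicit false
set_option backward.isDefEq.respectTransparency false
set_option backward.isDefEq.respectTransparency.types false

open CategoryTheory CategoryTheory.Limits AlgebraicGeometry TopologicalSpace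

namespace Groth.Agent.FlatRankOne

theorem exists_maximal_generalization {X : Scheme.{u}} (x : X) :
    ∃ η, η ⤳ x ∧ ∀ y, y ⤳ η → y = η := by
  have hirr : IsIrreducible (irreducibleComponent x) := isIrreducible_irreducibleComponent
  have hcl : closure ({hirr.genericPoint} : Set X) = irreducibleComponent x :=
    hirr.genericPoint_closure_eq.trans isClosed_irreducibleComponent.closure_eq
  refine ⟨hirr.genericPoint, specializes_iff_mem_closure.2 (hcl.ge mem_irreducibleComponent), fun y hy => ?_⟩
  have h1 : irreducibleComponent x ⊆ closure ({y} : Set X) :=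
    hcl.ge.trans (closure_minimal (Set.singleton_subset_iff.2 (specializes_iff_mem_closure.1 hy)) isClosed_closure)
  have h2 := (irreducibleComponent_mem_irreducibleComponents x).2 isIrreducible_singleton.closure h1
  exact ((specializes_iff_mem_closure.2 (hcl.ge (h2 (subset_closure rfl)))).antisymm hy).eq.symm

theorem maximal_map {X Y : Scheme.{u}} (f : X ⟶ Y) [Flat f] {η : X} (hη : ∀ y, y ⤳ η → y = η) :
    ∀ y, y ⤳ f η → y = f η := by
  intro y hy
  obtain ⟨η', h1, rfl⟩ := Flat.generalizingMap f hy
  rw [hη η' h1]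

/-- A finite flat morphism of rank at most one is an open immersion. -/
theorem isOpenImmersion_of_finrank_le_one {V U : Scheme.{u}} (f : V ⟶ U) [IsFinite f] [Flat f]
    [LocallyOfFinitePresentation f] (h : ∀ u, f.finrank u ≤ 1) : IsOpenImmersion f := by
  let U₁ : U.Opens := ⟨f.finrank ⁻¹' {1}, f.isLocallyConstant_finrank _⟩
  have hiso : IsIso (f ∣_ U₁) := by
    rw [Scheme.Hom.isIso_iff_finrank_eq]
    funext u
    rw [Scheme.Hom.finrank_of_isPullback _ _ f U₁.ι (isPullback_morphismRestrict f U₁).flip]
    exact u.2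
  have htop : f ⁻¹ᵁ U₁ = ⊤ := eq_top_iff.2 fun v _ => le_antisymm (h _) (f.one_le_finrank_map v)
  haveI := hiso
  haveI : IsIso (f ⁻¹ᵁ U₁).ι := by rw [htop]; exact V.topIso.isIso_hom
  rw [← IsIso.inv_hom_id_assoc (f ⁻¹ᵁ U₁).ι f, ← morphismRestrict_ι]
  infer_instance

variable {T S : Scheme.{u}} (g : T ⟶ S)

theorem finrank_le_one (h : ∀ s : S, (∀ t : S, t ⤳ s → t = s) → Mono (pullback.snd g (S.fromSpecResidueField s)))
    {U : Scheme.{u}} (fT : U ⟶ S) [Flat fT] (V : (pullback g fT).Opens)
    [IsFinite (V.ι ≫ pullback.snd g fT)] [Flat (V.ι ≫ pullback.snd g fT)]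
    [LocallyOfFinitePresentation (V.ι ≫ pullback.snd g fT)] (u : U) :
    (V.ι ≫ pullback.snd g fT).finrank u ≤ 1 := by
  let f := V.ι ≫ pullback.snd g fT
  obtain ⟨u₀, hu₀, hmax⟩ := exists_maximal_generalization u
  have heq : f.finrank u = f.finrank u₀ :=
    (hu₀.mem_open (f.isLocallyConstant_finrank {f.finrank u}) (show u ∈ f.finrank ⁻¹' {f.finrank u} from rfl)).symm
  show f.finrank u ≤ 1
  rw [heq]
  by_contra hgt
  let ι := U.fromSpecResidueField u₀
  let f' := pullback.snd f ι
  have hf' : ∀ z, f'.finrank z = f.finrank u₀ := fun z => by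
    rw [Scheme.Hom.finrank_pullback_snd, Scheme.fromSpecResidueField_apply]
  haveI hmono : Mono f' := by
    haveI : Mono (pullback.snd g (ι ≫ fT)) := by
      haveI := h (fT u₀) (maximal_map fT hmax)
      have e : ι ≫ fT = Spec.map (fT.residueFieldMap u₀) ≫ S.fromSpecResidueField (fT u₀) :=
        (Scheme.Hom.SpecMap_residueFieldMap_fromSpecResidueField fT u₀).symm
      have e' := pullbackLeftPullbackSndIso_hom_snd g (S.fromSpecResidueField (fT u₀)) (Spec.map (fT.residueFieldMap u₀))
      rw [← Iso.eq_inv_comp] at e'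
      rw [e, e']
      infer_instance
    refine ⟨fun {Z} a b hab => ?_⟩
    have h1 : a ≫ pullback.fst f ι ≫ f = b ≫ pullback.fst f ι ≫ f := by
      rw [pullback.condition, ← Category.assoc, ← Category.assoc]
      exact congrArg (· ≫ ι) hab
    refine pullback.hom_ext ?_ hab
    rw [← cancel_mono V.ι]
    refine pullback.hom_ext ?_ (by simpa only [Category.assoc] using h1)
    let φ : pullback f ι ⟶ pullback g (ι ≫ fT) :=
      pullback.lift (pullback.fst f ι ≫ V.ι ≫ pullback.fst g fT) f' (by
        show _ = pullback.snd f ι ≫ ι ≫ fT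
        rw [← pullback.condition_assoc]
        simp only [f, Category.assoc, pullback.condition])
    have h2 : a ≫ φ = b ≫ φ := (cancel_mono (pullback.snd g (ι ≫ fT))).1 (by
      simp only [Category.assoc, φ, pullback.lift_snd]; exact hab)
    have h3 := congrArg (· ≫ pullback.fst g (ι ≫ fT)) h2
    simp only [Category.assoc, φ, pullback.lift_fst] at h3
    simpa only [Category.assoc] using h3
  have hsurj : Surjective f' := (Scheme.Hom.one_le_finrank_iff_surjective f').1 fun z => by
    show 1 ≤ f'.finrank z
    rw [hf']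
    omega
  haveI : IsIso f' := Flat.isIso_of_surjective_of_mono f'
  have := congrFun ((Scheme.Hom.isIso_iff_finrank_eq f').1 ‹_›) (IsLocalRing.closedPoint _)
  rw [hf'] at this
  exact hgt this.le

theorem exists_etale_chart [Flat g] [LocallyOfFinitePresentation g] [IsSeparated g] [LocallyQuasiFinite g]
    (h : ∀ s : S, (∀ t : S, t ⤳ s → t = s) → Mono (pullback.snd g (S.fromSpecResidueField s))) (t : T) :
    ∃ (V : Scheme.{u}) (k : V ⟶ T), Etale k ∧ Etale (k ≫ g) ∧ t ∈ Set.range k := by
  obtain ⟨U, fT, hfT, -, V, W, v, -, hfin, hvt⟩ :=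
    exists_etale_isCompl_of_quasiFiniteAt g (x := t) rfl (g.quasiFiniteAt t)
  haveI := hfT
  haveI := hfin
  haveI : IsOpenImmersion (V.ι ≫ pullback.snd g fT) :=
    isOpenImmersion_of_finrank_le_one _ (finrank_le_one g h fT V)
  refine ⟨V, V.ι ≫ pullback.fst g fT, inferInstance, ?_, ⟨v, ?_⟩⟩
  · rw [Category.assoc, pullback.condition, ← Category.assoc]
    infer_instance
  · rw [Scheme.Hom.comp_apply]
    exact hvt

theorem etale [Flat g] [LocallyOfFinitePresentation g] [IsSeparated g] [LocallyQuasiFinite g]
    (h : ∀ s : S, (∀ t : S, t ⤳ s → t = s) → Mono (pullback.snd g (S.fromSpecResidueField s))) : Etale g := by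
  choose V k hk hkg hr using exists_etale_chart g h
  let d := Sigma.desc k
  haveI : Etale d := IsZariskiLocalAtSource.sigmaDesc hk
  haveI : Surjective d := ⟨fun t => by
    obtain ⟨v, hv⟩ := hr t
    exact ⟨Sigma.ι V t v, by rw [← Scheme.Hom.comp_apply]; simpa [d] using hv⟩⟩
  refine SrcDescent.etale_of_etale_comp d g ?_
  have : d ≫ g = Sigma.desc fun t => k t ≫ g := Sigma.hom_ext _ _ fun t => by simp [d]
  rw [this]
  exact IsZariskiLocalAtSource.sigmaDesc hkg

theorem isOpenImmersion [Flat g] [LocallyOfFinitePresentation g] [IsSeparated g] [LocallyQuasiFinite g]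
    (h : ∀ s : S, (∀ t : S, t ⤳ s → t = s) → Mono (pullback.snd g (S.fromSpecResidueField s))) :
    IsOpenImmersion g := by
  haveI := etale g h
  haveI : UniversallyInjective g := by
    rw [UniversallyInjective.iff_diagonal]
    refine ⟨fun p => ?_⟩
    obtain ⟨p₀, hp₀, hmax⟩ := exists_maximal_generalization p
    have hcl : IsClosed (Set.range (pullback.diagonal g)) := (pullback.diagonal g).isClosedEmbedding.isClosed_range
    refine hp₀.mem_closed hcl ?_
    have hs := maximal_map (pullback.fst g g ≫ g) hmax
    haveI := h _ hs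
    let φ := (pullback g g).fromSpecResidueField p₀
    have e : φ ≫ pullback.fst g g ≫ g =
        Spec.map ((pullback.fst g g ≫ g).residueFieldMap p₀) ≫ S.fromSpecResidueField _ :=
      (Scheme.Hom.SpecMap_residueFieldMap_fromSpecResidueField _ p₀).symm
    have e₂ : φ ≫ pullback.snd g g ≫ g =
        Spec.map ((pullback.fst g g ≫ g).residueFieldMap p₀) ≫ S.fromSpecResidueField _ := by
      rw [← pullback.condition]; exact e
    have h1 := (cancel_mono (pullback.snd g (S.fromSpecResidueField ((pullback.fst g g ≫ g) p₀)))).1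
      ((pullback.lift_snd (φ ≫ pullback.fst g g) _ (by rw [Category.assoc]; exact e)).trans
        (pullback.lift_snd (φ ≫ pullback.snd g g) _ (by rw [Category.assoc]; exact e₂)).symm)
    have h2 := congrArg (· ≫ pullback.fst g _) h1
    simp only [pullback.lift_fst] at h2
    have hfac : φ = (φ ≫ pullback.fst g g) ≫ pullback.diagonal g := by
      apply pullback.hom_ext
      · simp
      · rw [Category.assoc, pullback.diagonal_snd, Category.comp_id]
        exact h2.symm
    refine ⟨(φ ≫ pullback.fst g g) (IsLocalRing.closedPoint _), ?_⟩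
    rw [← Scheme.Hom.comp_apply, ← hfac, Scheme.fromSpecResidueField_apply]
  exact Pi1X.isOpenImmersion_of_etale_universallyInjective g

end Groth.Agent.FlatRankOne
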